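import Cfsg.Agent.BpExc.TorChev
import Cfsg.Agent.H378.SmallTor_m3
import Cfsg.Agent.H730.PairRow
import Cfsg.Agent.FastGrp
import Cfsg.Agent.Prune
set_option linter.all false
prune_inst 0x7f00000000000000000000000000000000000000000000000000000000000000000000000000000000000000000000000000000000000000000000000000000000000000000000000000000000000000003fffffffffffffffffffffffffffbeffbdffffffff
open scoped Cfsg.Agent.FastGrp

-- part: H138/XCen
section
/-!
# The centraliser of `e * u`, `e` generic in the kernel of a simple root (helper138, for S4938)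

`R` a root group datum with coordinates, `e ∈ T`, `f` a functional on the root lattice with `f (sr j₀) = 0`,
`f (sr j) > 0` for `j ≠ j₀`, such that `χ a e = 1 → f a = 0` and `χ (w a) e = χ a e → f (w a) = f a`. Then the
elements commuting with `e` and with a nontrivial element of `X (sr j₀)` are of the form `v * t`, `v ∈ X (sr j₀)`,
`t ∈ T`, `χ (sr j₀) t = 1`.
-/

set_option autoImplicit false
set_option linter.unusedSectionVars false

namespace Cfsg.Agent.H138.XCen

open CoxeterSystem Cfsg.Agent.ChevalleyStructure.CoxeterGeom Cfsg.Agent.Tits.Roots Cfsg.Agent.Tits.Core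
  Cfsg.Agent.Tits.RootComb Cfsg.Agent.Tits.Exchange Cfsg.Agent.Nodes.Reps Cfsg.Agent.Nodes.BNOf
  Cfsg.Agent.Nodes.NormalForm Cfsg.Agent.Nodes.Bruhat
open Cfsg.Agent.KFacts.RgdField Cfsg.Agent.BpExc.TorCent

section Fun

variable {I W : Type*} [Fintype I] [DecidableEq I] [Group W] {M : CoxeterMatrix I}
  {cs : CoxeterSystem M W} {A : I → I → ℤ} {h : IsCartan M A}

theorem fun_eq_sum (f : (I → ℤ) →+ ℤ) (x : I → ℤ) : f x = ∑ k, x k * f (sr k) := by
  have h4 : x = ∑ k, x k • (sr k : I → ℤ) := by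
    funext j
    rw [Finset.sum_apply]
    simp only [Pi.smul_apply, smul_eq_mul]
    rw [Finset.sum_eq_single j]
    · rw [sr_self, mul_one]
    · intro k _ hk
      rw [sr_ne (Ne.symm hk), mul_zero]
    · intro hj
      exact absurd (Finset.mem_univ j) hj
  conv_lhs => rw [h4]
  rw [map_sum]
  exact Finset.sum_congr rfl fun k _ => by rw [map_zsmul, smul_eq_mul]

variable {j₀ : I} {f : (I → ℤ) →+ ℤ} (h0 : f (sr j₀) = 0) (hpos : ∀ j, j ≠ j₀ → 0 < f (sr j))

include h0 hpos

/-- positive roots in the kernel of `f` -/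
theorem eq_sr_of_fun {a : I → ℤ} (ha : IsRoot cs h a) (ha0 : 0 ≤ a) (hf : f a = 0) : a = sr j₀ := by
  refine ha.eq_sr ha0 j₀ fun k hk => ?_
  rw [fun_eq_sum] at hf
  have h1 : ∀ i ∈ Finset.univ, 0 ≤ a i * f (sr i) := by
    intro i _
    by_cases hi : i = j₀
    · rw [hi, h0, mul_zero]
    · exact mul_nonneg (ha0 i) (hpos i hi).le
  have h2 := (Finset.sum_eq_zero_iff_of_nonneg h1).1 hf k (Finset.mem_univ k)
  rcases mul_eq_zero.1 h2 with h3 | h3
  · exact h3
  · exact absurd h3 (hpos k hk).ne'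

/-- the stabiliser of `f` in `W` -/
theorem stab_fun {w : W} (hw : ∀ a, IsRoot cs h a → f (rep cs h w a) = f a) : w = 1 ∨ w = cs.simple j₀ := by
  have key : ∀ w : W, (∀ a, IsRoot cs h a → f (rep cs h w a) = f a) → 0 ≤ rep cs h w (sr j₀) → w = 1 := by
    intro w hw hp
    by_contra hne
    obtain ⟨i, hi⟩ := cs.exists_rightDescent_of_ne_one hne
    have hneg : rep cs h w (sr i) ≤ 0 := nonpos_of_lt cs h _ i hi
    by_cases hij : i = j₀
    · subst hij
      exact ((isRoot_sr cs h i).act w).not_pos_neg hp hneg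
    · have h1 := hw _ (isRoot_sr cs h i)
      have h2 : f (rep cs h w (sr i)) ≤ 0 := by
        rw [fun_eq_sum]
        refine Finset.sum_nonpos fun k _ => ?_
        by_cases hk : k = j₀
        · rw [hk, h0, mul_zero]
        · exact mul_nonpos_of_nonpos_of_nonneg (hneg k) (hpos k hk).le
      rw [h1] at h2
      exact absurd (hpos i hij) (not_lt.2 h2)
  have hsimp : ∀ x : I → ℤ, f (rep cs h (cs.simple j₀) x) = f x := by
    intro x
    rw [rep_simple_eq, map_sub, map_zsmul, h0, smul_zero, sub_zero]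
  rcases ((isRoot_sr cs h j₀).act w).pos_or_neg with h1 | h1
  · exact Or.inl (key w hw h1)
  · right
    have h2 : w * cs.simple j₀ = 1 := by
      refine key _ (fun a ha => ?_) ?_
      · rw [rep_mul_apply, hw _ (ha.act _), hsimp]
      · rw [rep_mul_apply, rep_simple_sr, map_neg]
        exact neg_nonneg.2 h1
    have h3 := eq_inv_of_mul_eq_one_left h2
    rwa [cs.inv_simple] at h3

end Fun

section Main

variable {I W Y : Type*} [Fintype I] [DecidableEq I] [Group W] [Group Y] {M : CoxeterMatrix I}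
  {cs : CoxeterSystem M W} {A : I → I → ℤ} {h : IsCartan M A} {p : ℕ} {T : Subgroup Y} {n : I → Y}
  {X : (I → ℤ) → Subgroup Y} {F : Type*} [Field F] {xx : (I → ℤ) → F → Y} {χ : (I → ℤ) → Y → F}

/-- opposite simple root groups meet trivially -/
theorem inf_neg (R : RGD cs h p T n X) [Finite W] (i : I) : X (sr i) ⊓ X (-sr i) = ⊥ := by
  rw [eq_bot_iff]
  rintro u ⟨h1, h2⟩
  rw [Subgroup.mem_bot]
  by_contra hu
  obtain ⟨a, ha, t, ht, b, hb, e⟩ := R.rk1 i u h2 hu
  have hX : X (sr i) ≤ RGD.B cs h T X := RGD.X_le_B (isRoot_sr cs h i) (sr_nonneg i)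
  have h3 : n i ∈ RGD.B cs h T X := by
    have h4 : n i = (a * t)⁻¹ * u * b⁻¹ := by rw [e]; group
    rw [h4]
    exact mul_mem (mul_mem (inv_mem (mul_mem (hX ha) (RGD.T_le_B ht))) (hX h1)) (inv_mem (hX hb))
  have h5 := R.eq_one_of_mem_B (rp_simple cs R.nsys i) h3
  have h6 := cs.length_simple i
  rw [h5, cs.length_one] at h6
  exact absurd h6 (by norm_num)

variable (R : RGD cs h p T n X) (C : Coords cs h T n X xx χ)

include R C in
/-- **The centraliser of `e` and of `u ∈ X (sr j₀)`.** -/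
theorem exists_of_comm [Finite W] {j₀ : I} {f : (I → ℤ) →+ ℤ}
    (h0 : f (sr j₀) = 0) (hpos : ∀ j, j ≠ j₀ → 0 < f (sr j)) {e : Y} (he : e ∈ T)
    (hf1 : ∀ a, IsRoot cs h a → χ a e = 1 → f a = 0)
    (hf2 : ∀ a, IsRoot cs h a → ∀ w, χ (rep cs h w a) e = χ a e → f (rep cs h w a) = f a)
    {u : Y} (hu : u ∈ X (sr j₀)) (hu1 : u ≠ 1) {g : Y} (hg : g ∈ GG cs h T X) (hge : g * e = e * g)
    (hgu : g * u = u * g) : ∃ v ∈ X (sr j₀), ∃ t ∈ T, χ (sr j₀) t = 1 ∧ g = v * t := by
  have hj := isRoot_sr cs h j₀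
  have CX := C.coord _ hj
  have hab : ∀ a ∈ X (sr j₀), ∀ b ∈ X (sr j₀), a * b = b * a := by
    intro a ha b hb
    obtain ⟨s, rfl⟩ := (CX.mem a).1 ha
    obtain ⟨t, rfl⟩ := (CX.mem b).1 hb
    rw [← CX.add, ← CX.add, add_comm]
  obtain ⟨u₁, hu₁, w, k, hk, hkc, v₁, hv₁, rfl⟩ := mem_centralizer R (S := {e}) (Set.singleton_subset_iff.2 he) hg
    (Subgroup.mem_centralizer_singleton_iff.2 hge)
  have hsup : RGD.Sup (fun x => X x ⊓ Subgroup.centralizer {e}) (RGD.Pos cs h) ≤ X (sr j₀) := by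
    refine RGD.Sup_le fun a ha => ?_
    rintro y ⟨hy, hc⟩
    by_cases h1 : y = 1
    · rw [h1]; exact one_mem _
    · have h2 := mem_Sx_of_centralizer C he ha.1 hy h1 hc
      rw [← eq_sr_of_fun h0 hpos ha.1 ha.2 (hf1 a ha.1 h2.2)]
      exact hy
  have hu₁' := hsup hu₁
  have hv₁' := hsup hv₁
  have hw : ∀ a, IsRoot cs h a → f (rep cs h w a) = f a := fun a ha =>
    hf2 a ha w (chi_of_centralizer R C he hk hkc ha)
  rcases stab_fun h0 hpos hw with rfl | rfl
  · have hkT : k ∈ T := hk.mem_of_one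
    have hXn : k * v₁ * k⁻¹ ∈ X (sr j₀) := by
      have h1 := R.tor _ hj k hkT
      rw [← h1]
      exact conj_mem_cj.2 hv₁'
    refine ⟨u₁ * (k * v₁ * k⁻¹), mul_mem hu₁' hXn, k, hkT, ?_, by group⟩
    -- `k` commutes with `u`
    have h2 : k * u = u * k := by
      have h3 : u₁ * (k * v₁ * k⁻¹) * (k * u) = u₁ * (k * v₁ * k⁻¹) * (u * k) := by
        calc u₁ * (k * v₁ * k⁻¹) * (k * u) = u₁ * k * (v₁ * u) := by group
          _ = u₁ * k * (u * v₁) := by rw [hab _ hv₁' _ hu]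
          _ = u₁ * k * u * v₁ := by group
          _ = (u₁ * k * u * k⁻¹) * (k * v₁ * k⁻¹) * k := by group
          _ = (u₁ * (k * u * k⁻¹)) * (k * v₁ * k⁻¹) * k := by group
          _ = (u₁ * (k * v₁ * k⁻¹)) * (k * u * k⁻¹) * k := by
              have h4 : k * u * k⁻¹ ∈ X (sr j₀) := by
                rw [← R.tor _ hj k hkT]
                exact conj_mem_cj.2 hu
              rw [mul_assoc u₁, hab _ h4 _ hXn, ← mul_assoc]
          _ = u₁ * k * v₁ * u := by
              have h5 : v₁ * u = u * v₁ := hab _ hv₁' _ hu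
              calc (u₁ * (k * v₁ * k⁻¹)) * (k * u * k⁻¹) * k = u₁ * k * (v₁ * u) := by group
                _ = u₁ * k * v₁ * u := by group
          _ = u * (u₁ * k * v₁) := by rw [hgu]
          _ = u * (u₁ * (k * v₁ * k⁻¹)) * k := by group
          _ = u₁ * (k * v₁ * k⁻¹) * u * k := by rw [hab _ hu _ (mul_mem hu₁' hXn)]
          _ = u₁ * (k * v₁ * k⁻¹) * (u * k) := by group
      exact mul_left_cancel h3
    obtain ⟨s, rfl⟩ := (CX.mem u).1 hu
    have hs : s ≠ 0 := by
      rintro rfl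
      exact hu1 CX.zero
    have h3 := CX.act k hkT s
    rw [h2, mul_inv_cancel_right] at h3
    have h4 := CX.inj h3
    exact (mul_eq_right₀ hs).1 h4.symm
  · exfalso
    have h1 : k * u * k⁻¹ ∈ X (-sr j₀) := by
      have := R.conj_mem hk hj hu
      rwa [rep_simple_sr] at this
    have h2 : k * u * k⁻¹ = u₁⁻¹ * u * u₁ := by
      have h3 : u₁ * (k * u * k⁻¹) * u₁⁻¹ = u := by
        calc u₁ * (k * u * k⁻¹) * u₁⁻¹ = u₁ * k * (v₁ * u * v₁⁻¹) * (u₁ * k)⁻¹ := by
              rw [hab _ hv₁' _ hu]; group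
          _ = (u₁ * k * v₁ * u) * (u₁ * k * v₁)⁻¹ := by group
          _ = u := by rw [hgu]; group
      calc k * u * k⁻¹ = u₁⁻¹ * (u₁ * (k * u * k⁻¹) * u₁⁻¹) * u₁ := by group
        _ = u₁⁻¹ * u * u₁ := by rw [h3]
    have h4 : u₁⁻¹ * u * u₁ ∈ X (sr j₀) := mul_mem (mul_mem (inv_mem hu₁') hu) hu₁'
    have h3 : k * u * k⁻¹ ∈ X (sr j₀) ⊓ X (-sr j₀) := ⟨by
      rw [h2]
      exact h4, h1⟩
    rw [inf_neg R, Subgroup.mem_bot, mul_inv_eq_one, mul_eq_left] at h3
    exact hu1 h3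

end Main

end Cfsg.Agent.H138.XCen
end

-- part: H138/XTor
section
/-!
# Tori of `D.group F` given by a coweight (helper138, for S4938)

* `fn D l c` : the functional `x ↦ ∑ c_j ⟨x, α_j^∨⟩`;
* `tH hp c : Fˣ →* D.group F`, `ch_tH : ch hp a (tH u) = u ^ fn a`; `emb_tH` : compatibility with field maps;
* `card_tor` : `|T| = |T₀| * (q - 1)`, `T₀` the kernel of a simple root with a neighbour joined by `-1`;
* `exists_pow` : the prime divisors of `N`, `q * q ∣ N`, `a * (q - 1) ∣ N`, against those of `q * a`.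
-/

set_option autoImplicit false
set_option linter.unusedSectionVars false

namespace Cfsg.Agent.H138.XTor

open CoxeterSystem Subgroup Cfsg Cfsg.Lie Cfsg.Lie.ChevalleyDatum
open Cfsg.Agent.ChevalleyStructure Cfsg.Agent.ChevalleyStructure.Elts Cfsg.Agent.ChevalleyStructure.CoxeterGeom
  Cfsg.Agent.ChevalleyStructure.CoxeterGeomTypes Cfsg.Agent.ChevalleyStructure.NPerm
open Cfsg.Agent.Tits.Roots Cfsg.Agent.Tits.Core Cfsg.Agent.Nodes.Reps Cfsg.Agent.Nodes.BNOf
  Cfsg.Agent.Nodes.RGDChev Cfsg.Agent.Nodes.Bruhat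
open Cfsg.Agent.KFacts.RgdField Cfsg.Agent.KFacts.RgdChevCoord Cfsg.Agent.BpExc.TorCent Cfsg.Agent.BpExc.TorChev
open Cfsg.Agent.BpExc.Tow Cfsg.Agent.BpExc.TowChev
open Cfsg.Agent.H378.TorDual Cfsg.Agent.H378.TorChar Cfsg.Agent.GpExc.Field

universe u

section Fn

/-- the functional `x ↦ ∑ c_j ⟨x, α_j^∨⟩` -/
def fn (D : ChevalleyDatum) (l : ℕ) (c : Fin l → ℤ) : (Fin l → ℤ) →+ ℤ where
  toFun x := ∑ j, c j * pairing (cartanOf D l) j x
  map_zero' := by simp [pairing]
  map_add' x y := by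
    rw [← Finset.sum_add_distrib]
    exact Finset.sum_congr rfl fun j _ => by rw [pairing_add, mul_add]

theorem fn_apply (D : ChevalleyDatum) (l : ℕ) (c : Fin l → ℤ) (x : Fin l → ℤ) :
    fn D l c x = ∑ j, c j * pairing (cartanOf D l) j x := rfl

theorem fn_sr (D : ChevalleyDatum) (l : ℕ) (c : Fin l → ℤ) (i : Fin l) :
    fn D l c (sr i) = ∑ j : Fin l, c j * D.cartan j (D.simple i) := by
  rw [fn_apply]
  refine Finset.sum_congr rfl fun j _ => ?_
  unfold pairing
  rw [Finset.sum_eq_single i]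
  · rw [sr_self, mul_one]
    rfl
  · intro k _ hk
    rw [sr_ne hk, mul_zero]
  · intro hi
    exact absurd (Finset.mem_univ i) hi

variable {l : ℕ} {F : Type u} [Field F]

/-- the character `x ↦ u ^ f x` -/
def chf (f : (Fin l → ℤ) →+ ℤ) : Fˣ →* Ch l F where
  toFun u :=
    { toFun := fun x => u ^ f (Multiplicative.toAdd x)
      map_one' := by rw [toAdd_one, map_zero, zpow_zero]
      map_mul' := fun x y => by rw [toAdd_mul, map_add, zpow_add] }
  map_one' := MonoidHom.ext fun x => one_zpow _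
  map_mul' u v := MonoidHom.ext fun x => mul_zpow _ _ _

theorem chf_apply (f : (Fin l → ℤ) →+ ℤ) (u : Fˣ) (x : Fin l → ℤ) : chf f u (Multiplicative.ofAdd x) = u ^ f x := rfl

end Fn

section Tor

variable {D : ChevalleyDatum} {l : ℕ} {M : CoxeterMatrix (Fin l)} (hp : IsType D l M) {F : Type u} [Field F]

theorem chf_mem (c : Fin l → ℤ) (u : Fˣ) : chf (fn D l c) u ∈ (tchar (k := F) hp).range := by
  have h1 : chf (fn D l c) u = ∏ j : Fin l, tchar (k := F) hp
      ⟨hc hp j ((u ^ c j : Fˣ) : F), hc_mem hp j (Units.ne_zero _)⟩ := by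
    refine ext_sr fun i => Units.ext ?_
    rw [chf_apply, MonoidHom.finsetProd_apply, Units.coe_prod, fn_apply]
    have h2 : ∀ j : Fin l, (((tchar (k := F) hp ⟨hc hp j ((u ^ c j : Fˣ) : F), hc_mem hp j (Units.ne_zero _)⟩)
        (Multiplicative.ofAdd (sr i)) : Fˣ) : F) = ((u ^ (c j * pairing (cartanOf D l) j (sr i)) : Fˣ) : F) := by
      intro j
      rw [tchar_sr, ← vec_simple hp i, ch_hc hp j (Units.ne_zero _) (simple_lt hp.inList (lt_rank hp i)),
        pairing_vec hp j (simple_lt hp.inList (lt_rank hp i)), zpow_mul]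
      rw [Units.val_zpow_eq_zpow_val (u ^ c j)]
    rw [Finset.prod_congr rfl fun j _ => h2 j, ← Units.coe_prod]
    congr 1
    generalize (Finset.univ : Finset (Fin l)) = s
    induction s using Finset.induction_on with
    | empty => rw [Finset.sum_empty, Finset.prod_empty, zpow_zero]
    | insert a s ha ih => rw [Finset.sum_insert ha, Finset.prod_insert ha, zpow_add, ih]
  rw [h1]
  exact Subgroup.prod_mem _ fun j _ => ⟨_, rfl⟩

/-- **The torus of a coweight.** -/
noncomputable def tH (c : Fin l → ℤ) : Fˣ →* ↥(TT D F) :=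
  ((MonoidHom.ofInjective (tchar_injective (k := F) hp)).symm : _ →* ↥(TT D F)).comp
    ((chf (fn D l c)).codRestrict _ (chf_mem hp c))

theorem tchar_tH (c : Fin l → ℤ) (u : Fˣ) : tchar hp (tH hp c u) = chf (fn D l c) u := by
  have h1 : MonoidHom.ofInjective (tchar_injective (k := F) hp) (tH hp c u) =
      ((chf (fn D l c)).codRestrict _ (chf_mem hp c)) u :=
    (MonoidHom.ofInjective (tchar_injective (k := F) hp)).apply_symm_apply _
  exact congrArg Subtype.val h1

theorem tH_eq {c : Fin l → ℤ} {u : Fˣ} {t : ↥(TT D F)}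
    (h : ∀ i, ch hp (sr i) t.1 = ((u ^ fn D l c (sr i) : Fˣ) : F)) : t = tH hp c u := by
  apply tchar_injective hp
  rw [tchar_tH]
  refine ext_sr fun i => Units.ext ?_
  rw [tchar_sr, h, chf_apply]

theorem ch_tH_sr (c : Fin l → ℤ) (u : Fˣ) (i : Fin l) :
    ch hp (sr i) (tH hp c u).1 = ((u ^ fn D l c (sr i) : Fˣ) : F) := by
  rw [← tchar_sr, tchar_tH, chf_apply]

theorem ch_tH [Finite F] {W : Type*} [Group W] (cs : CoxeterSystem M W) (r : ℕ) [Fact r.Prime] [CharP F r]
    (c : Fin l → ℤ) (u : Fˣ) {a : Fin l → ℤ} (ha : IsRoot cs hp.isCartan a) :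
    ch hp a (tH hp c u).1 = ((u ^ fn D l c a : Fˣ) : F) := by
  rw [← tchar_apply hp cs (H378.SmallTor.locFin_of_finite F) r _ ha, tchar_tH, chf_apply]

/-- compatibility with field maps -/
theorem emb_tH {L : Type u} [Field L] (f : F →+* L) (c : Fin l → ℤ) (u : Fˣ) :
    emb hp.inList f (tH hp c u).1 = (tH hp c (Units.map (f : F →* L) u)).1 := by
  have hmem : emb hp.inList f (tH hp c u).1 ∈ TT D L := emb_T hp f ⟨_, (tH hp c u).2, rfl⟩
  have h1 : (⟨emb hp.inList f (tH hp c u).1, hmem⟩ : ↥(TT D L)) = tH hp c (Units.map (f : F →* L) u) := by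
    refine tH_eq hp fun i => ?_
    have h2 := emb_ch hp f (simple_lt hp.inList (lt_rank hp i)) (tH hp c u).2
    rw [vec_simple hp i, ch_tH_sr] at h2
    refine h2.trans ?_
    rw [← map_zpow]
    rfl
  exact congrArg Subtype.val h1

/-- the kernel -/
theorem tH_ker {c : Fin l → ℤ} {u : Fˣ} (h : tH hp c u = 1) (i : Fin l) : u ^ fn D l c (sr i) = 1 := by
  have h1 := ch_tH_sr hp c u i
  rw [h] at h1
  have h2 : ch hp (sr i) ((1 : ↥(TT D F)) : ↥(D.group F)) = 1 := by
    rw [← vec_simple hp i]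
    exact ch_one' hp (simple_lt hp.inList (lt_rank hp i))
  rw [h2] at h1
  exact Units.ext h1.symm

end Tor

section Card

variable {D : ChevalleyDatum} {l : ℕ} {M : CoxeterMatrix (Fin l)} (hp : IsType D l M) {F : Type u} [Field F]

include hp in
/-- the elements of the torus have order dividing `q - 1` -/
theorem TT_pow [Finite F] {g : ↥(D.group F)} (hg : g ∈ TT D F) : g ^ (Nat.card F - 1) = 1 := by
  have := Fintype.ofFinite F
  rw [Subgroup.mem_subgroupOf] at hg
  obtain ⟨χ, hχ⟩ := HMatDiagAll.mem_torus.1 (HMatDiagAll.diagonalSubgroup_le_torus hp.inList hg)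
  have hne : ∀ s, χ s ≠ 0 := by
    intro s h0
    have h1 := (g : GL D.Idx F).isUnit
    rw [hχ, Matrix.isUnit_iff_isUnit_det, Matrix.det_diagonal, isUnit_iff_ne_zero, Finset.prod_ne_zero_iff] at h1
    exact h1 (Sum.inr s) (Finset.mem_univ _) h0
  apply Subtype.ext
  apply Units.ext
  rw [Subgroup.coe_pow, Units.val_pow_eq_pow_val, hχ, Matrix.diagonal_pow, Subgroup.coe_one, Units.val_one,
    ← Matrix.diagonal_one]
  congr 1
  funext i
  rw [Nat.card_eq_fintype_card]
  rcases i with i | i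
  · exact one_pow _
  · exact FiniteField.pow_card_sub_one_eq_one _ (hne i)

/-- **The kernel of a fundamental root in the torus.** -/
theorem card_tor [Finite F] {j₀ j₁ : Fin l} (hj : D.cartan j₁ (D.simple j₀) = -1) :
    Nat.card ↥(TT D F) = Nat.card ↥((uch (k := F) hp j₀).ker) * (Nat.card F - 1) := by
  have hsurj : Function.Surjective (uch (k := F) hp j₀) := by
    intro y
    refine ⟨⟨hc hp j₁ ((y⁻¹ : Fˣ) : F), hc_mem hp j₁ (Units.ne_zero _)⟩, Units.ext ?_⟩
    rw [coe_uch]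
    show ch hp (sr j₀) (hc hp j₁ ((y⁻¹ : Fˣ) : F)) = y
    rw [← vec_simple hp j₀, ch_hc hp j₁ (Units.ne_zero _) (simple_lt hp.inList (lt_rank hp j₀)), hj]
    rw [← Units.val_zpow_eq_zpow_val, inv_zpow', neg_neg, zpow_one]
  have h1 := (uch (k := F) hp j₀).ker.card_mul_index
  rw [Subgroup.index_ker, MonoidHom.range_eq_top.2 hsurj, Subgroup.card_top, Nat.card_units] at h1
  exact h1.symm

end Card

/-- prime divisors of `q * a` against `N` -/
theorem exists_pow {N q a m p : ℕ} (hp : p.Prime) (hq : 1 < q) (ha0 : 0 < a) (h1 : q * q ∣ N)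
    (h2 : a * (q - 1) ∣ N) (h4 : a * m ∣ N) (h3 : p ∣ a → p ∣ q - 1 ∨ p ∣ m) (hm : ¬ (p ∣ m ∧ p ∣ q)) (hN : p ∣ N) :
    ∃ k, p ^ k ∣ N ∧ ¬ p ^ k ∣ q * a := by
  have hnd : ¬ (p ∣ q ∧ p ∣ q - 1) := by
    rintro ⟨ha, hb⟩
    have h4 := (Nat.dvd_sub ha hb)
    have h5 : q - (q - 1) = 1 := by omega
    rw [h5] at h4
    exact hp.one_lt.ne' (Nat.dvd_one.1 h4)
  by_cases hpq : p ∣ q
  · have hpa : ¬ p ∣ a := by
      intro h
      rcases h3 h with h5 | h5
      · exact hnd ⟨hpq, h5⟩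
      · exact hm ⟨h5, hpq⟩
    obtain ⟨e, m, hm, he⟩ := Nat.exists_eq_pow_mul_and_not_dvd (n := q) (by omega) p hp.one_lt.ne'
    refine ⟨e + 1, ?_, ?_⟩
    · refine dvd_trans ?_ h1
      rw [pow_succ]
      exact mul_dvd_mul ⟨m, he⟩ hpq
    · intro h4
      have h5 := (((Nat.Prime.coprime_iff_not_dvd hp).2 hpa).pow_left (e + 1)).dvd_of_dvd_mul_right h4
      rw [he, pow_succ] at h5
      exact hm (Nat.dvd_of_mul_dvd_mul_left (pow_pos hp.pos e) h5)
  · have key : ∀ b, p ∣ b → a * b ∣ N → ∃ k, p ^ k ∣ N ∧ ¬ p ^ k ∣ q * a := by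
      intro b hb hab
      obtain ⟨e, m, hm, he⟩ := Nat.exists_eq_pow_mul_and_not_dvd (n := a) ha0.ne' p hp.one_lt.ne'
      refine ⟨e + 1, ?_, ?_⟩
      · refine dvd_trans ?_ hab
        rw [pow_succ]
        exact mul_dvd_mul ⟨m, he⟩ hb
      · intro h4
        have h5 := (((Nat.Prime.coprime_iff_not_dvd hp).2 hpq).pow_left (e + 1)).dvd_of_dvd_mul_left h4
        rw [he, pow_succ] at h5
        exact hm (Nat.dvd_of_mul_dvd_mul_left (pow_pos hp.pos e) h5)
    by_cases hpq1 : p ∣ q - 1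
    · exact key _ hpq1 h2
    · by_cases hpm : p ∣ m
      · exact key _ hpm h4
      · refine ⟨1, by rwa [pow_one], ?_⟩
        rw [pow_one, hp.dvd_mul]
        rintro (h | h)
        · exact hpq h
        · rcases h3 h with h5 | h5
          · exact hpq1 h5
          · exact hpm h5

end Cfsg.Agent.H138.XTor
end

-- part: H138/XChev
section
/-!
# `XRow` for the groups `D.group F` (helper138, for S4938)

`x = e * u`, `e` the element of the torus given by a coweight `c` (zero on `α_{j₀}`, positive on the other fundamental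
roots) and a generator of `Fˣ`, `u` a root element of `α_{j₀}`.
-/

set_option autoImplicit false
set_option linter.unusedSectionVars false

namespace Cfsg.Agent.H138.XChev

open CoxeterSystem Subgroup Cfsg Cfsg.Lie Cfsg.Lie.ChevalleyDatum
open Cfsg.Agent.ChevalleyStructure Cfsg.Agent.ChevalleyStructure.Elts Cfsg.Agent.ChevalleyStructure.CoxeterGeom
  Cfsg.Agent.ChevalleyStructure.CoxeterGeomTypes Cfsg.Agent.ChevalleyStructure.NPerm
open Cfsg.Agent.Tits.Roots Cfsg.Agent.Tits.Core Cfsg.Agent.Nodes.Reps Cfsg.Agent.Nodes.BNOf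
  Cfsg.Agent.Nodes.RGDChev Cfsg.Agent.Nodes.Bruhat
open Cfsg.Agent.KFacts.RgdField Cfsg.Agent.KFacts.RgdChevCoord Cfsg.Agent.BpExc.TorCent Cfsg.Agent.BpExc.TorChev
open Cfsg.Agent.BpExc.Tow Cfsg.Agent.BpExc.TowChev
open Cfsg.Agent.H378.TorDual Cfsg.Agent.H378.TorChar Cfsg.Agent.GpExc.Field
open Cfsg.Agent.H730.Pair Cfsg.Agent.H967.CopMat Cfsg.Agent.H967.CopRow Cfsg.Agent.H138.XTor

universe u

section Arith

variable {F : Type u} [Field F] [Finite F]

theorem zpow_eq_one {b : Fˣ} (hb : ∀ x : Fˣ, x ∈ zpowers b) {m : ℕ} (hm : m + 1 < Nat.card F) {x : ℤ}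
    (hx : |x| ≤ m) (h : b ^ x = 1) : x = 0 := by
  have hob : orderOf b = Nat.card F - 1 := by rw [orderOf_eq_card_of_forall_mem_zpowers hb, Nat.card_units]
  have h1 := orderOf_dvd_iff_zpow_eq_one.2 h
  refine Int.eq_zero_of_abs_lt_dvd h1 ?_
  rw [hob]
  have : ((Nat.card F - 1 : ℕ) : ℤ) = (Nat.card F : ℤ) - 1 := by
    rw [Nat.cast_sub (by omega), Nat.cast_one]
  omega

end Arith

section Cop

variable {D : ChevalleyDatum} {F : Type u} [Field F] [Finite F]

/-- The size of the field, if there is a coprime automorphism. -/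
theorem lt_card [Finite ↥(D.group F)] (R : Row (D.group F)) (hc : HasCop ↥(D.group F)) {t₀ : ℕ}
    (hsm : ∀ p, p.Prime → p < t₀ → p ∣ Nat.card ↥(D.group F)) : 2 ^ t₀ ≤ Nat.card F := by
  obtain ⟨t, htp, htd, α, hα⟩ := hc
  obtain ⟨e', σ, -, h2⟩ := R.exists_equiv_one (MulEquiv.refl ↥(D.group F)) α (by
    rw [hα]
    exact (Nat.Prime.coprime_iff_not_dvd htp).2 htd)
  rw [card_Fx σ, h2, hα]
  have ht0 : t₀ ≤ t := by
    by_contra h
    exact htd (hsm t htp (by omega))
  have h3 : 2 ≤ Nat.card ↥(Fx σ) := Finite.one_lt_card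
  calc 2 ^ t₀ ≤ 2 ^ t := Nat.pow_le_pow_right two_pos ht0
    _ ≤ Nat.card ↥(Fx σ) ^ t := Nat.pow_le_pow_left h3 t

end Cop

variable {D : ChevalleyDatum} {l : ℕ} {M : CoxeterMatrix (Fin l)} (hp : IsType D l M) {F : Type u} [Field F]

theorem xc_pow [Finite F] {W : Type*} [Group W] (cs : CoxeterSystem M W) (r : ℕ) [Fact r.Prime] [CharP F r]
    {a : Fin l → ℤ} (ha : IsRoot cs hp.isCartan a) (n : ℕ) : xc (K := F) hp a 1 ^ n = xc hp a (n : F) := by
  have CX := (coords (K := F) hp cs r).coord a ha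
  induction n with
  | zero => rw [pow_zero, Nat.cast_zero, CX.zero]
  | succ n ih => rw [pow_succ, ih, Nat.cast_succ, CX.add]

theorem orderOf_xc [Finite F] {W : Type*} [Group W] (cs : CoxeterSystem M W) (r : ℕ) [Fact r.Prime] [CharP F r]
    {a : Fin l → ℤ} (ha : IsRoot cs hp.isCartan a) : orderOf (xc (K := F) hp a 1) = r := by
  have CX := (coords (K := F) hp cs r).coord a ha
  refine orderOf_eq_prime ?_ ?_
  · rw [xc_pow hp cs r ha, CharP.cast_eq_zero, CX.zero]
  · intro h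
    rw [← CX.zero] at h
    exact one_ne_zero (CX.inj h)

theorem card_XX [Finite F] {W : Type*} [Group W] (cs : CoxeterSystem M W) (r : ℕ) [Fact r.Prime] [CharP F r]
    {a : Fin l → ℤ} (ha : IsRoot cs hp.isCartan a) : Nat.card ↥(XX D l F a) = Nat.card F := by
  have CX := (coords (K := F) hp cs r).coord a ha
  refine (Nat.card_congr (Equiv.ofBijective (fun t : F => (⟨xc hp a t, (CX.mem _).2 ⟨t, rfl⟩⟩ : ↥(XX D l F a)))
    ⟨?_, ?_⟩)).symm
  · intro s t h
    exact CX.inj (congrArg Subtype.val h)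
  · rintro ⟨y, hy⟩
    obtain ⟨t, rfl⟩ := (CX.mem y).1 hy
    exact ⟨t, rfl⟩

include hp in
/-- **`XRow` for `D.group F`.** -/
theorem xRow [Finite F] {r : ℕ} [Fact r.Prime] [CharP F r] [Finite ↥(D.group F)] (R : Row (D.group F))
    (c : Fin l → ℤ) (j₀ j₁ i₁ : Fin l) (m t₀ k : ℕ) (hj : D.cartan j₁ (D.simple j₀) = -1)
    (h0 : ∑ j : Fin l, c j * D.cartan j (D.simple j₀) = 0)
    (hpos : ∀ i, i ≠ j₀ → 0 < ∑ j : Fin l, c j * D.cartan j (D.simple i))
    (hm : ∀ s < D.nroots, |∑ j : Fin l, c j * D.cartan j s| ≤ m)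
    (hi : ∑ j : Fin l, c j * D.cartan j (D.simple i₁) = k) (hk0 : 0 < k) (hkt : k < t₀) (ht : 2 * m + 1 < 2 ^ t₀)
    (hsm : ∀ p, p.Prime → p < t₀ → p ∣ Nat.card ↥(D.group F))
    (hqq : Nat.card F * Nat.card F ∣ Nat.card ↥(D.group F)) : XRow r ↥(D.group F) := by
  intro hcop
  have hq := lt_card R hcop hsm
  let cs := M.toCoxeterSystem
  have hW : Finite M.Group := finite_W hp cs
  have RG := rgd (K := F) hp cs r
  have C := coords (K := F) hp cs r
  have hjr := isRoot_sr cs hp.isCartan j₀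
  have CX := C.coord _ hjr
  obtain ⟨b, hb⟩ := IsCyclic.exists_generator (α := Fˣ)
  -- the functional
  have hfsr : ∀ i, fn D l c (sr i) = ∑ j : Fin l, c j * D.cartan j (D.simple i) := fn_sr D l c
  have hfm : ∀ a, IsRoot cs hp.isCartan a → |fn D l c a| ≤ m := by
    intro a ha
    obtain ⟨s, hs, rfl⟩ := (isRoot_iff hp cs a).1 ha
    rw [fn_apply, Finset.sum_congr rfl fun j _ => by rw [pairing_vec hp j hs]]
    exact hm s hs
  set e : ↥(D.group F) := (tH hp c b).1 with he
  have heT : e ∈ TT D F := (tH hp c b).2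
  set u : ↥(D.group F) := xc hp (sr j₀) 1 with hu
  have huX : u ∈ XX D l F (sr j₀) := (CX.mem _).2 ⟨1, rfl⟩
  have hou : orderOf u = r := orderOf_xc hp cs r hjr
  have hu1 : u ≠ 1 := by
    intro h
    rw [h, orderOf_one] at hou
    exact (Fact.out : r.Prime).one_lt.ne hou
  have hch : ∀ a, IsRoot cs hp.isCartan a → ch hp a e = ((b ^ fn D l c a : Fˣ) : F) := fun a ha =>
    ch_tH hp cs r c b ha
  have hf1 : ∀ a, IsRoot cs hp.isCartan a → ch hp a e = 1 → fn D l c a = 0 := by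
    intro a ha h
    rw [hch a ha] at h
    exact zpow_eq_one hb (m := m) (by omega) (hfm a ha) (Units.ext h)
  have hf2 : ∀ a, IsRoot cs hp.isCartan a → ∀ w, ch hp (rep cs hp.isCartan w a) e = ch hp a e →
      fn D l c (rep cs hp.isCartan w a) = fn D l c a := by
    intro a ha w h
    rw [hch a ha, hch _ (ha.act w)] at h
    have h1 := hfm a ha
    have h2 := hfm _ (ha.act w)
    have h3 : fn D l c (rep cs hp.isCartan w a) - fn D l c a = 0 := by
      refine zpow_eq_one hb (m := 2 * m) (by omega) ?_ ?_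
      · have h4 := abs_sub (fn D l c (rep cs hp.isCartan w a)) (fn D l c a)
        push_cast
        linarith
      · rw [zpow_sub, Units.ext h, mul_inv_cancel]
    exact sub_eq_zero.1 h3
  have hcomm : Commute e u := by
    have h1 := CX.act e heT 1
    rw [hch _ hjr, hfsr, h0, zpow_zero, Units.val_one, one_mul] at h1
    exact mul_inv_eq_iff_eq_mul.1 h1
  have hcop' : (orderOf e).Coprime (orderOf u) := by
    rw [hou]
    have h1 : orderOf e ∣ Nat.card F - 1 := orderOf_dvd_of_pow_eq_one (TT_pow hp heT)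
    refine Nat.Coprime.coprime_dvd_left h1 ?_
    obtain ⟨p', hp'f, hp'c, n, hn, hcard⟩ := H378.SmallTor.exists_charP F
    have hrp : p' = r := CharP.eq F hp'c ‹CharP F r›
    rw [hrp] at hcard
    rw [Nat.coprime_comm, Nat.Prime.coprime_iff_not_dvd (Fact.out : r.Prime)]
    intro h2
    have h3 : r ∣ Nat.card F := by
      rw [hcard]
      exact dvd_pow_self _ hn.ne'
    have h4 := Nat.dvd_sub h3 h2
    have h5 : Nat.card F - (Nat.card F - 1) = 1 := by
      have := Finite.one_lt_card (α := F)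
      omega
    rw [h5] at h4
    exact (Fact.out : r.Prime).one_lt.ne' (Nat.dvd_one.1 h4)
  have heu : e ∈ zpowers (e * u) := mem_zpowers_mul hcomm hcop'
  have hueu : u ∈ zpowers (e * u) := by
    rw [hcomm.eq]
    exact mem_zpowers_mul hcomm.symm hcop'.symm
  have hgen : Gen ↥(D.group F) e := by
    refine Gen.of_hom (fieldAut R.stab) (ConjIn.of_row R) ((TT D F).subtype.comp (tH hp c)) ?_ (c := k) hk0 ?_
      (fun p hp' hpk => hsm p hp' (by omega)) hb
    · intro τ v
      show fieldAut R.stab τ (tH hp c v).1 = (tH hp c (Units.map (τ : F →* F) v)).1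
      have h1 : fieldAut R.stab τ (tH hp c v).1 = emb hp.inList (τ : F →+* F) (tH hp c v).1 := by
        apply Subtype.ext
        apply Units.ext
        rfl
      rw [h1, emb_tH]
      rfl
    · intro v hv
      have h1 : tH hp c v = 1 := Subtype.ext hv
      have h2 := tH_ker hp h1 i₁
      rw [hfsr, hi, zpow_natCast] at h2
      exact h2
  refine ⟨e * u, ?_, hgen.mul hcomm hcop', ?_⟩
  · rw [← hou]
    exact orderOf_dvd_of_mem_zpowers hueu
  -- the centraliser
  have hT0c : ∀ t : ↥(TT D F), t ∈ (uch (k := F) hp j₀).ker ↔ ch hp (sr j₀) t.1 = 1 := by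
    intro t
    rw [MonoidHom.mem_ker, ← coe_uch]
    exact Units.ext_iff
  have hcm : ∀ (v : ↥(XX D l F (sr j₀))) (t : ↥((uch (k := F) hp j₀).ker)),
      Commute ((XX D l F (sr j₀)).subtype v) (((TT D F).subtype.comp ((uch (k := F) hp j₀).ker).subtype) t) := by
    rintro ⟨v, hv⟩ ⟨t, ht⟩
    obtain ⟨s, rfl⟩ := (CX.mem v).1 hv
    have h1 := CX.act t.1 t.2 s
    rw [(hT0c t).1 ht, one_mul] at h1
    exact (mul_inv_eq_iff_eq_mul.1 h1).symm
  let φ := MonoidHom.noncommCoprod (XX D l F (sr j₀)).subtype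
    ((TT D F).subtype.comp ((uch (k := F) hp j₀).ker).subtype) hcm
  have hle : centralizer ({e * u} : Set ↥(D.group F)) ≤ φ.range := by
    intro g hg
    have hg' : g * (e * u) = (e * u) * g := (mem_centralizer_singleton_iff.1 hg)
    have hz : ∀ z ∈ zpowers (e * u), g * z = z * g := by
      rintro z ⟨n, rfl⟩
      exact (Commute.zpow_right (show Commute g (e * u) from hg') n).eq
    obtain ⟨v, hv, t, ht, hct, rfl⟩ := XCen.exists_of_comm RG C (j₀ := j₀) (f := fn D l c) (by rw [hfsr]; exact h0)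
      (fun j hj' => by rw [hfsr]; exact hpos j hj') heT hf1 hf2 huX hu1 (g := g)
      (by rw [GG_top hp cs]; exact mem_top _) (hz e heu) (hz u hueu)
    exact ⟨(⟨v, hv⟩, ⟨⟨t, ht⟩, (hT0c _).2 hct⟩), rfl⟩
  have hcard : Nat.card ↥(centralizer ({e * u} : Set ↥(D.group F))) ∣
      Nat.card F * Nat.card ↥((uch (k := F) hp j₀).ker) := by
    refine (Subgroup.card_dvd_of_le hle).trans ((Subgroup.card_range_dvd φ).trans ?_)
    rw [Nat.card_prod, card_XX hp cs r hjr]
  intro p hpp hpd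
  have hpow : ∀ g ∈ TT D F, g ^ (Nat.card F - 1) = 1 := fun g hg => TT_pow hp hg
  obtain ⟨n, hn1, hn2⟩ := exists_pow (m := 1) hpp (Finite.one_lt_card (α := F))
    (Nat.card_pos (α := ↥((uch (k := F) hp j₀).ker))) hqq
    (by rw [← card_tor hp hj]; exact Subgroup.card_subgroup_dvd_card _)
    (by
      rw [mul_one]
      exact (Dvd.intro _ (card_tor hp hj).symm).trans (Subgroup.card_subgroup_dvd_card (TT D F)))
    (by
      intro h
      left
      have : Fact p.Prime := ⟨hpp⟩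
      obtain ⟨g, hg⟩ := exists_prime_orderOf_dvd_card' p h
      rw [← hg]
      refine orderOf_dvd_of_pow_eq_one (Subtype.ext (Subtype.ext ?_))
      exact hpow _ g.1.2)
    (by
      rintro ⟨h1, -⟩
      exact hpp.one_lt.ne' (Nat.dvd_one.1 h1)) hpd
  exact dvd_index_of_not_dvd hpp hn1 fun h => hn2 (h.trans hcard)

end Cfsg.Agent.H138.XChev
end
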